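import Groth.Agent.Sga4h.H582.ASCov

/-!
# The Artin–Schreier cover of affine space attached to the sum of the coordinates

`z ^ q - z = ∑ x_i` is an affine space over the base, for a nonempty set of coordinates.
-/

set_option autoImplicit false
universe u

open CategoryTheory CategoryTheory.Limits AlgebraicGeometry Polynomial

noncomputable section

namespace Groth.Agent.Sga4h.H555.CoordCov

open Groth.Agent.Sga4h.H582.ASCov

variable {K : Type u} [CommRing K] {σ : Type} [Fintype σ] [DecidableEq σ] (q : ℕ) (i₀ : σ)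

variable (K σ) in
/-- The sum of the coordinates. -/
abbrev sm : MvPolynomial σ K := ∑ i : σ, MvPolynomial.X i

/-- `x_{i₀} ↦ x_{i₀}^q - x_{i₀} - ∑_{i ≠ i₀} x_i` -/
def base : MvPolynomial σ K →+* MvPolynomial σ K :=
  MvPolynomial.eval₂Hom MvPolynomial.C (fun i => if i = i₀ then
    MvPolynomial.X i₀ ^ q - MvPolynomial.X i₀ - ∑ i ∈ Finset.univ.erase i₀, MvPolynomial.X i else MvPolynomial.X i)

theorem base_C (x : K) : base (σ := σ) q i₀ (MvPolynomial.C x) = MvPolynomial.C x := by
  simp [base]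

theorem base_X_self : base (K := K) q i₀ (MvPolynomial.X i₀) = MvPolynomial.X i₀ ^ q - MvPolynomial.X i₀ -
    ∑ i ∈ Finset.univ.erase i₀, MvPolynomial.X i := by
  simp [base]

theorem base_X {i : σ} (h : i ≠ i₀) : base (K := K) q i₀ (MvPolynomial.X i) = MvPolynomial.X i := by
  simp [base, h]

theorem base_sm : base q i₀ (sm K σ) = MvPolynomial.X i₀ ^ q - MvPolynomial.X i₀ := by
  rw [sm, map_sum, ← Finset.add_sum_erase _ _ (Finset.mem_univ i₀), base_X_self,
    Finset.sum_congr rfl (fun i hi => base_X q i₀ (Finset.ne_of_mem_erase hi))]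
  ring

/-- `x_{i₀} ↦ z`, `x_i ↦ x_i` -/
def cInv : MvPolynomial σ K →+* LangSh.ASAlg (MvPolynomial σ K) q (sm K σ) :=
  MvPolynomial.eval₂Hom ((algebraMap (MvPolynomial σ K) (LangSh.ASAlg (MvPolynomial σ K) q (sm K σ))).comp
    MvPolynomial.C) (fun i => if i = i₀ then AdjoinRoot.root _ else
      algebraMap (MvPolynomial σ K) (LangSh.ASAlg (MvPolynomial σ K) q (sm K σ)) (MvPolynomial.X i))

theorem cInv_C (x : K) : cInv (σ := σ) q i₀ (MvPolynomial.C x) =
    algebraMap (MvPolynomial σ K) (LangSh.ASAlg (MvPolynomial σ K) q (sm K σ)) (MvPolynomial.C x) := by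
  rw [cInv, MvPolynomial.eval₂Hom_C]
  rfl

theorem cInv_X_self : cInv (K := K) q i₀ (MvPolynomial.X i₀) = AdjoinRoot.root _ := by
  rw [cInv, MvPolynomial.eval₂Hom_X', if_pos rfl]

theorem cInv_X {i : σ} (h : i ≠ i₀) : cInv (K := K) q i₀ (MvPolynomial.X i) =
    algebraMap (MvPolynomial σ K) (LangSh.ASAlg (MvPolynomial σ K) q (sm K σ)) (MvPolynomial.X i) := by
  rw [cInv, MvPolynomial.eval₂Hom_X', if_neg h]

theorem cInv_sum : cInv (K := K) q i₀ (∑ i ∈ Finset.univ.erase i₀, MvPolynomial.X i) =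
    algebraMap (MvPolynomial σ K) (LangSh.ASAlg (MvPolynomial σ K) q (sm K σ))
      (∑ i ∈ Finset.univ.erase i₀, MvPolynomial.X i) := by
  refine (map_sum (cInv (K := K) q i₀) _ _).trans ?_
  refine Eq.trans ?_ (map_sum (algebraMap (MvPolynomial σ K) (LangSh.ASAlg (MvPolynomial σ K) q (sm K σ))) _ _).symm
  exact Finset.sum_congr rfl (fun j hj => cInv_X q i₀ (Finset.ne_of_mem_erase hj))

/-- `z ↦ x_{i₀}` -/
def cHom : LangSh.ASAlg (MvPolynomial σ K) q (sm K σ) →+* MvPolynomial σ K :=
  lift q (sm K σ) (base q i₀) (MvPolynomial.X i₀) (by rw [base_sm])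

theorem cHom_root : cHom (K := K) q i₀ (AdjoinRoot.root _) = MvPolynomial.X i₀ := lift_root _ _ _ _ _

theorem cHom_algebraMap (x : MvPolynomial σ K) :
    cHom q i₀ (algebraMap (MvPolynomial σ K) (LangSh.ASAlg (MvPolynomial σ K) q (sm K σ)) x) = base q i₀ x :=
  DFunLike.congr_fun (lift_comp q (sm K σ) (base q i₀) (MvPolynomial.X i₀) (by rw [base_sm])) x

theorem cHom_comp_cInv : (cHom (K := K) q i₀).comp (cInv q i₀) = RingHom.id _ := by
  apply MvPolynomial.ringHom_ext
  · intro x
    rw [RingHom.comp_apply, cInv_C, cHom_algebraMap, base_C]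
    rfl
  · intro i
    rw [RingHom.comp_apply]
    by_cases h : i = i₀
    · subst h
      rw [cInv_X_self, cHom_root]
      rfl
    · rw [cInv_X q i₀ h, cHom_algebraMap, base_X q i₀ h]
      rfl

theorem cInv_comp_cHom : (cInv (K := K) q i₀).comp (cHom q i₀) = RingHom.id _ := by
  apply hom_ext
  · apply MvPolynomial.ringHom_ext
    · intro x
      rw [RingHom.comp_apply, RingHom.comp_apply, cHom_algebraMap, base_C, cInv_C]
      rfl
    · intro i
      rw [RingHom.comp_apply, RingHom.comp_apply, cHom_algebraMap]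
      by_cases h : i = i₀
      · subst h
        rw [base_X_self, map_sub, map_sub, map_pow, cInv_X_self, root_eq, cInv_sum, ← map_sub]
        change algebraMap _ (LangSh.ASAlg (MvPolynomial σ K) q (sm K σ)) _ =
          algebraMap _ (LangSh.ASAlg (MvPolynomial σ K) q (sm K σ)) _
        congr 1
        rw [sm, ← Finset.add_sum_erase _ _ (Finset.mem_univ i)]
        ring
      · rw [base_X q i₀ h, cInv_X q i₀ h]
        rfl
  · rw [RingHom.comp_apply, cHom_root, cInv_X_self]
    rfl

/-- The structure morphism. -/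
abbrev str (K A : Type u) [CommRing K] [CommRing A] [Algebra K A] :
    Spec (CommRingCat.of A) ⟶ Spec (CommRingCat.of K) := Spec.map (CommRingCat.ofHom (algebraMap K A))

/-- The affine space with coordinates `σ`. -/
abbrev A (K : Type u) [CommRing K] (σ : Type) : Scheme.{u} := Spec (CommRingCat.of (MvPolynomial σ K))

/-- The isomorphism of the cover with the affine space. -/
def ε : Spec (CommRingCat.of (LangSh.ASAlg (MvPolynomial σ K) q (sm K σ))) ⟶ A K σ :=
  Spec.map (CommRingCat.ofHom (cInv q i₀))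

instance isIso_ε : IsIso (ε (K := K) q i₀) := by
  refine ⟨⟨Spec.map (CommRingCat.ofHom (cHom q i₀)), ?_, ?_⟩⟩
  · rw [ε, ← Spec.map_comp, ← CommRingCat.ofHom_comp, cInv_comp_cHom]
    exact Spec.map_id _
  · rw [ε, ← Spec.map_comp, ← CommRingCat.ofHom_comp, cHom_comp_cInv]
    exact Spec.map_id _

theorem ε_str : ε q i₀ ≫ str K (MvPolynomial σ K) = cov q (sm K σ) ≫ str K (MvPolynomial σ K) := by
  rw [ε, str, cov, LangSh.cover, ← Spec.map_comp, ← Spec.map_comp, ← CommRingCat.ofHom_comp,
    ← CommRingCat.ofHom_comp]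
  congr 2
  ext x
  exact cInv_C q i₀ x

end Groth.Agent.Sga4h.H555.CoordCov

namespace Groth.Agent.Sga4h.H555.CoordCov

open Groth.Agent.Sga4h.H582.ASCov

variable {K : Type u} [CommRing K] [IsDomain K] {σ : Type} [Fintype σ] [DecidableEq σ] (q : ℕ)

theorem connectedSpace_cov [h : Nonempty σ] :
    ConnectedSpace (Spec (CommRingCat.of (LangSh.ASAlg (MvPolynomial σ K) q (sm K σ)))) := by
  obtain ⟨i₀⟩ := h
  have h2 : ConnectedSpace (A K σ) := inferInstance
  have h3 : Function.Surjective (inv (ε (K := K) q i₀)) := (inv (ε (K := K) q i₀)).surjective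
  exact h3.connectedSpace (inv (ε (K := K) q i₀)).continuous

end Groth.Agent.Sga4h.H555.CoordCov
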