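import Groth.Agent.Sga4h.H555.RFS
import Groth.Agent.Sga4h.FinRedOC
import Groth.Agent.Sga4B.ShriekTools
import Groth.Agent.Etcore.OpenClosed

/-!
# Local criterion for "forget supports" isomorphisms

`isRFS_extZero`: if all stalks of `R^q j_* F` vanish outside of the open `j`, then `IsRFS f j (j_! F)` for all `f`.
-/

set_option autoImplicit false
universe u

open CategoryTheory CategoryTheory.Limits Opposite AlgebraicGeometry

attribute [local instance] HasDerivedCategory.standard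

noncomputable section
namespace Groth.Agent.Sga4h.H555.LocalCrit

open Groth.Agent.Etrest.DEtPush Groth.Agent.Etcore Groth.Agent.Etcore.Stalks
  Groth.Agent.Etcore.ShriekUnique Groth.Agent.Sga4h.H555.RFS

variable {P S X : Scheme.{u}}

/-- A sheaf in degree zero of the derived category. -/
abbrev sg (F : EtCoh.Ab X) : DCoh.DEt X := (DerivedCategory.singleFunctor (EtCoh.Ab X) 0).obj F

/-- Being an isomorphism on the stalk at a point of the open `j` may be tested after restriction. -/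
theorem isIso_stalk_of_pull (j : X ⟶ P) [IsOpenImmersion j] {F G : EtCoh.Ab P} (a : F ⟶ G)
    (h : IsIso ((EtCoh.pull j).map a)) {Ω : Type u} [Field Ω] [IsSepClosed Ω]
    (ξ : Spec (CommRingCat.of Ω) ⟶ P) (hξ : ξ default ∈ Set.range j) : IsIso ((EtCoh.stalk ξ).map a) := by
  obtain ⟨v, rfl⟩ := exists_lift j ξ hξ
  exact (NatIso.isIso_map_iff (Groth.Agent.Etbase.StalkPull.stalkPullIso j v) a).2
    (inferInstanceAs (IsIso ((EtCoh.stalk v).map ((EtCoh.pull j).map a))))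

theorem isZero_stalk_of_pull (j : X ⟶ P) [IsOpenImmersion j] {F : EtCoh.Ab P}
    (h : IsZero ((EtCoh.pull j).obj F)) {Ω : Type u} [Field Ω] [IsSepClosed Ω]
    (ξ : Spec (CommRingCat.of Ω) ⟶ P) (hξ : ξ default ∈ Set.range j) : IsZero ((EtCoh.stalk ξ).obj F) := by
  obtain ⟨v, rfl⟩ := exists_lift j ξ hξ
  exact ((EtCoh.stalk v).map_isZero h).of_iso ((Groth.Agent.Etbase.StalkPull.stalkPullIso j v).app F)

/-- `R^0 j_* = j_*`. -/
def rpushZero (j : X ⟶ P) : EtCoh.Rpush j 0 ≅ EtCoh.push j := (EtCoh.push j).rightDerivedZeroIsoSelf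

/-- All stalks of `R^q j_* F`, `q ≥ 0`, vanish at some geometric point over each point outside of `j`. -/
def BdZero (j : X ⟶ P) (F : EtCoh.Ab X) : Prop :=
  ∀ x : P, x ∉ Set.range j → ∃ (Ω : Type u) (_ : Field Ω) (_ : IsSepClosed Ω)
    (ξ : Spec (CommRingCat.of Ω) ⟶ P), ξ default = x ∧
      ∀ q : ℕ, IsZero ((EtCoh.stalk ξ).obj ((EtCoh.Rpush j q).obj F))

theorem BdZero.of_iso {j : X ⟶ P} {F G : EtCoh.Ab X} (h : BdZero j F) (e : F ≅ G) : BdZero j G := by
  intro x hx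
  obtain ⟨Ω, i1, i2, ξ, h1, h2⟩ := h x hx
  exact ⟨Ω, i1, i2, ξ, h1, fun q => (h2 q).of_iso ((EtCoh.stalk ξ).mapIso ((EtCoh.Rpush j q).mapIso e.symm))⟩

section

variable (j : X ⟶ P) [IsOpenImmersion j]

theorem BdZero.isZero_Rpush {F : EtCoh.Ab X} (h : BdZero j F) (q : ℕ) (hq : 0 < q) :
    IsZero ((EtCoh.Rpush j q).obj F) := by
  obtain ⟨q, rfl⟩ : ∃ r, q = r + 1 := ⟨q - 1, by omega⟩
  refine isZero_of_stalks _ fun x => ?_
  by_cases hx : x ∈ Set.range j
  · obtain ⟨Ω, _, _, ξ, hξ⟩ := exists_geom x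
    exact ⟨Ω, inferInstance, inferInstance, ξ, hξ,
      isZero_stalk_of_pull j (Groth.Agent.Sga4h.FinRed.isZero_pull_Rpush j F q) ξ (hξ ▸ hx)⟩
  · obtain ⟨Ω, i1, i2, ξ, hξ, h2⟩ := h x hx
    exact ⟨Ω, i1, i2, ξ, hξ, h2 (q + 1)⟩

theorem BdZero.isIso_unit {F : EtCoh.Ab X} (h : BdZero j F) :
    IsIso ((EtCoh.pullPushAdj j).unit.app ((EtShriek.extZero j).obj F)) := by
  refine isIso_of_stalks _ fun x => ?_
  by_cases hx : x ∈ Set.range j
  · obtain ⟨Ω, _, _, ξ, hξ⟩ := exists_geom x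
    exact ⟨Ω, inferInstance, inferInstance, ξ, hξ, isIso_stalk_of_pull j _ inferInstance ξ (hξ ▸ hx)⟩
  · obtain ⟨Ω, i1, i2, ξ, hξ, h2⟩ := h x hx
    refine ⟨Ω, i1, i2, ξ, hξ, ?_⟩
    have h3 : IsZero ((EtCoh.stalk ξ).obj ((EtShriek.extZero j).obj F)) :=
      isZero_stalk_extZero' j ξ (hξ ▸ hx) F
    have h4 : IsZero ((EtCoh.stalk ξ).obj ((EtCoh.push j).obj ((EtCoh.pull j).obj ((EtShriek.extZero j).obj F)))) :=
      (h2 0).of_iso ((EtCoh.stalk ξ).mapIso ((EtCoh.push j).mapIso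
        (Groth.Agent.Sga4B.ShriekTools.pullExtZeroIso j F) ≪≫ ((rpushZero j).app F).symm))
    exact h3.isIso h4 _

/-- The local criterion. -/
theorem BdZero.isRFS {F : EtCoh.Ab X} (h : BdZero j F) (f : P ⟶ S) :
    IsRFS f j (sg ((EtShriek.extZero j).obj F)) :=
  IsRFS.of_acyclic f j _ (h.isIso_unit j) fun q hq => (h.isZero_Rpush j q hq).of_iso
    ((EtCoh.Rpush j q).mapIso (Groth.Agent.Sga4B.ShriekTools.pullExtZeroIso j F))

end

end Groth.Agent.Sga4h.H555.LocalCrit
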