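import Groth.Agent.Sga4h.GSqEt
import Groth.Agent.Etrest.HpullBij
import Groth.Agent.Etbc.H181.HyperExt

/-!
# Relative "forget supports" isomorphisms

For `f : P ⟶ S`, `j : X ⟶ P` and `M : DCoh.DEt P`, `IsRFS f j M` says that `Rf_* M ⟶ R(j ≫ f)_* j^* M` is an
isomorphism (a special case of base change, for the square `j ≫ f = (j ≫ f) ≫ 𝟙 S`).

* `IsRFS.bijective`: `Hom(f^* T, M) ⟶ Hom(j^* f^* T, j^* M)` is bijective for all `T : DCoh.DEt S`;
* `IsRFS.of_iso`, `IsRFS.shift`, `IsRFS.one`, `IsRFS.two`, `IsRFS.three`, `IsRFS.of_retract`;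
* `IsRFS.of_base` : change of `S` along `S ⟶ T`;
* `IsRFS.comp`, `IsRFS.of_comp`: composition of the open immersions;
* `rfs_push_iff`: direct image along `h : P' ⟶ P`;
* `IsRFS.baseChange`: change of base `S' ⟶ S`;
* `Hpull_bijective`: consequence for `EtCore.Hpull`.
-/

set_option autoImplicit false
universe u

open CategoryTheory CategoryTheory.Limits Opposite AlgebraicGeometry

attribute [local instance] HasDerivedCategory.standard

noncomputable section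
namespace Groth.Agent.Sga4h.H555.RFS

open Groth.Agent.Etrest.RDer3 Groth.Agent.Etrest.RDer4 Groth.Agent.Etrest.RDer5
  Groth.Agent.Etrest.DEtPush Groth.Agent.Etrest.DEtMate Groth.Agent.EtpbcB Groth.Agent.Sga4h.RPair
  Groth.Agent.Sga4h.GSq Pretriangulated

section abstract

universe v₁ v₂ v₃ v₄ u₁ u₂ u₃ u₄

variable {A : Type u₁} [Category.{v₁} A] {B : Type u₂} [Category.{v₂} B]
  {A' : Type u₃} [Category.{v₃} A'] {B' : Type u₄} [Category.{v₄} B']
  {Φ : A ⥤ B} {G : A ⥤ A'} {G' : B ⥤ B'} {Φ' : A' ⥤ B'}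

/-- `G` an equivalence: base change for `K` means that `G'` is bijective on `Hom(Φ T, K)`. -/
theorem bc_iff_bijective (s : Sq Φ G G' Φ') [G.IsEquivalence] {K : B} (hK : HasUniv Φ K) :
    s.BC K ↔ ∀ T : A, Function.Bijective (fun φ : Φ.obj T ⟶ K => G'.map φ) := by
  obtain ⟨M, ε, hε⟩ := hK
  have key : ∀ T : A, (Function.Bijective (fun φ : Φ.obj T ⟶ K => G'.map φ) ↔
      Function.Bijective (fun χ : G.obj T ⟶ G.obj M => Φ'.map χ ≫ s.bc ε)) := by
    intro T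
    have h1 : (fun ψ : T ⟶ M => s.σ.hom.app T ≫ G'.map (Φ.map ψ ≫ ε)) =
        (fun ψ : T ⟶ M => Φ'.map (G.map ψ) ≫ s.bc ε) := by
      funext ψ
      have := s.bc_naturality ψ (𝟙 K) (ε := Φ.map ψ ≫ ε) (ε₁ := ε) (by simp)
      rw [this]
      simp [Sq.bc]
    have h2 : Function.Bijective (fun ψ : T ⟶ M => G.map ψ) :=
      ⟨G.map_injective, G.map_surjective⟩
    have h3 : Function.Bijective (fun x : G'.obj (Φ.obj T) ⟶ G'.obj K => s.σ.hom.app T ≫ x) :=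
      ⟨fun a b hab => (cancel_epi _).1 hab, fun c => ⟨inv (s.σ.hom.app T) ≫ c, by simp⟩⟩
    constructor
    · intro h
      have h4 : Function.Bijective (fun ψ : T ⟶ M => Φ'.map (G.map ψ) ≫ s.bc ε) := by
        rw [← h1]
        exact h3.comp (h.comp (hε T))
      exact (Function.Bijective.of_comp_iff (fun χ : G.obj T ⟶ G.obj M => Φ'.map χ ≫ s.bc ε) h2).1 h4
    · intro h
      have h4 : Function.Bijective (fun ψ : T ⟶ M => s.σ.hom.app T ≫ G'.map (Φ.map ψ ≫ ε)) := by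
        rw [h1]
        exact h.comp h2
      have h5 : Function.Bijective (fun ψ : T ⟶ M => G'.map (Φ.map ψ ≫ ε)) :=
        (Function.Bijective.of_comp_iff' h3 (fun ψ : T ⟶ M => G'.map (Φ.map ψ ≫ ε))).1 h4
      exact (Function.Bijective.of_comp_iff (fun φ : Φ.obj T ⟶ K => G'.map φ) (hε T)).1 h5
  constructor
  · intro h T
    exact (key T).2 (h.isUniv hε _)
  · intro h
    refine ⟨M, ε, hε, fun N => ?_⟩
    have h1 := (key (G.objPreimage N)).1 (h _)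
    let e := G.objObjPreimageIso N
    have h2 : Function.Bijective (fun φ : N ⟶ G.obj M => e.hom ≫ φ) :=
      ⟨fun a b hab => (cancel_epi _).1 hab, fun c => ⟨e.inv ≫ c, by simp⟩⟩
    have h3 : Function.Bijective (fun φ : Φ'.obj N ⟶ G'.obj K => Φ'.map e.hom ≫ φ) :=
      ⟨fun a b hab => (cancel_epi _).1 hab, fun c => ⟨inv (Φ'.map e.hom) ≫ c, by simp⟩⟩
    refine (Function.Bijective.of_comp_iff' h3 _).1 ?_
    have h4 : (fun φ : Φ'.obj N ⟶ G'.obj K => Φ'.map e.hom ≫ φ) ∘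
        (fun φ : N ⟶ G.obj M => Φ'.map φ ≫ s.bc ε) =
        (fun χ : G.obj (G.objPreimage N) ⟶ G.obj M => Φ'.map χ ≫ s.bc ε) ∘
          (fun φ : N ⟶ G.obj M => e.hom ≫ φ) := by
      funext φ
      simp
    rw [h4]
    exact h1.comp h2

end abstract

variable {P S X Y T P' X' S' : Scheme.{u}}

/-- `Rf_* M ⟶ R(j ≫ f)_* j^* M` is an isomorphism. -/
def IsRFS (f : P ⟶ S) (j : X ⟶ P) (M : DCoh.DEt P) : Prop :=
  BC (show j ≫ f = (j ≫ f) ≫ 𝟙 S by simp) M

instance : (pullD (𝟙 S)).IsEquivalence := by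
  have := isEquivalence_pull_of_isIso (𝟙 S)
  exact isEquivalence_pullD _

/-- The general form of the square. -/
theorem rfs_iff (f : P ⟶ S) (j : X ⟶ P) (M : DCoh.DEt P) {g : X ⟶ S} (w : j ≫ f = g ≫ 𝟙 S) :
    IsRFS f j M ↔ BC w M := by
  obtain rfl : j ≫ f = g := by rw [w, Category.comp_id]
  exact Iff.rfl

theorem rfs_iff_bijective (f : P ⟶ S) (j : X ⟶ P) (M : DCoh.DEt P) :
    IsRFS f j M ↔ ∀ T : DCoh.DEt S, Function.Bijective (fun φ : (pullD f).obj T ⟶ M => (pullD j).map φ) :=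
  bc_iff_bijective _ (hasUniv (EtCoh.pullPushAdj f) M)

variable {f : P ⟶ S} {j : X ⟶ P}

theorem IsRFS.bijective {M : DCoh.DEt P} (h : IsRFS f j M) (T : DCoh.DEt S) {N : DCoh.DEt P}
    (e : (pullD f).obj T ≅ N) : Function.Bijective (fun φ : N ⟶ M => (pullD j).map φ) := by
  have h1 := (rfs_iff_bijective f j M).1 h T
  have h2 : Function.Bijective (fun φ : N ⟶ M => e.hom ≫ φ) :=
    ⟨fun a b hab => (cancel_epi _).1 hab, fun c => ⟨e.inv ≫ c, by simp⟩⟩
  have h3 : Function.Bijective (fun φ : (pullD j).obj N ⟶ (pullD j).obj M => (pullD j).map e.hom ≫ φ) :=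
    ⟨fun a b hab => (cancel_epi _).1 hab, fun c => ⟨inv ((pullD j).map e.hom) ≫ c, by simp⟩⟩
  refine (Function.Bijective.of_comp_iff' h3 _).1 ?_
  have h4 : (fun φ : (pullD j).obj N ⟶ (pullD j).obj M => (pullD j).map e.hom ≫ φ) ∘
      (fun φ : N ⟶ M => (pullD j).map φ) =
      (fun φ : (pullD f).obj T ⟶ M => (pullD j).map φ) ∘ (fun φ : N ⟶ M => e.hom ≫ φ) := by
    funext φ
    simp
  rw [h4]
  exact h1.comp h2

theorem IsRFS.of_iso {K L : DCoh.DEt P} (h : IsRFS f j K) (e : K ≅ L) : IsRFS f j L := BC.of_iso h e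

theorem IsRFS.shift {K : DCoh.DEt P} (h : IsRFS f j K) (n : ℤ) : IsRFS f j (K⟦n⟧) := BC.shift h n

theorem IsRFS.of_shift {K : DCoh.DEt P} {n : ℤ} (h : IsRFS f j (K⟦n⟧)) : IsRFS f j K := BC.of_shift h

theorem IsRFS.three {T : Triangle (DCoh.DEt P)} (hT : T ∈ distTriang _) (h₁ : IsRFS f j T.obj₁)
    (h₂ : IsRFS f j T.obj₂) : IsRFS f j T.obj₃ := BC.three hT h₁ h₂

theorem IsRFS.one {T : Triangle (DCoh.DEt P)} (hT : T ∈ distTriang _) (h₂ : IsRFS f j T.obj₂)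
    (h₃ : IsRFS f j T.obj₃) : IsRFS f j T.obj₁ := BC.one hT h₂ h₃

theorem IsRFS.two {T : Triangle (DCoh.DEt P)} (hT : T ∈ distTriang _) (h₁ : IsRFS f j T.obj₁)
    (h₃ : IsRFS f j T.obj₃) : IsRFS f j T.obj₂ := BC.two hT h₁ h₃

theorem IsRFS.of_isZero {K : DCoh.DEt P} (hK : IsZero K) : IsRFS f j K := BC.of_isZero hK

theorem IsRFS.of_retract {K L : DCoh.DEt P} (h : IsRFS f j L) (e : Retract K L) : IsRFS f j K :=
  BC.of_retract h e

/-- Change of `S` along `S ⟶ T`. -/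
theorem IsRFS.of_base {M : DCoh.DEt P} (h : IsRFS f j M) (q : S ⟶ T) : IsRFS (f ≫ q) j M := by
  rw [rfs_iff_bijective]
  intro T'
  exact h.bijective ((pullD q).obj T') ((Groth.Agent.Sga4h.GSq.pullDComp q f).app T')

/-- Composition. -/
theorem IsRFS.comp {M : DCoh.DEt P} (i : Y ⟶ X) (h : IsRFS f j M) (h' : IsRFS (j ≫ f) i ((pullD j).obj M)) :
    IsRFS f (i ≫ j) M := by
  rw [rfs_iff f (i ≫ j) M (g := i ≫ j ≫ f) (by simp)]
  have h1 : (i ≫ j) ≫ f = (i ≫ j ≫ f) ≫ (𝟙 S ≫ 𝟙 S) := by simp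
  have h2 := BC.hcomp (w := h1) h h'
  convert h2 using 1
  simp


/-- Direct image along `h : P' ⟶ P`. -/
theorem isRFS_push_iff {h : P' ⟶ P} {j' : X' ⟶ P'} {g : X' ⟶ X} (w : j' ≫ h = g ≫ j) (K : DCoh.DEt P')
    (hK : BC w K) : IsRFS (h ≫ f) j' K ↔ IsRFS f j ((pushD h).obj K) := by
  have h1 : j' ≫ (h ≫ f) = (g ≫ (j ≫ f)) ≫ 𝟙 S := by
    rw [Category.comp_id, reassoc_of% w]
  rw [rfs_iff (h ≫ f) j' K h1]
  exact ⟨fun h2 => BC.of_vcomp hK h2, fun h2 => BC.vcomp h1 hK h2⟩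

/-- Change of base. -/
theorem IsRFS.baseChange {M : DCoh.DEt P} (h : IsRFS f j M) {f' : P' ⟶ S'} {j' : X' ⟶ P'} {q : S' ⟶ S}
    {qP : P' ⟶ P} {qX : X' ⟶ X} (w : qP ≫ f = f' ≫ q) (w' : qX ≫ j = j' ≫ qP) (h1 : BC w M)
    (h2 : BC (show qX ≫ (j ≫ f) = (j' ≫ f') ≫ q by rw [reassoc_of% w', w, Category.assoc]) ((pullD j).obj M)) :
    IsRFS f' j' ((pullD qP).obj M) := by
  have h3 : (qX ≫ j) ≫ f = (j' ≫ f') ≫ (q ≫ 𝟙 S) := by
    rw [Category.assoc, reassoc_of% w', w, Category.comp_id, Category.assoc]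
  have h4 : BC h3 M := BC.hcomp h3 h h2
  have h5 : (j' ≫ qP) ≫ f = (j' ≫ f') ≫ (𝟙 S' ≫ q) := by
    rw [Category.assoc, w, Category.id_comp, Category.assoc]
  have h6 : BC h5 M := by
    convert h4 using 1
    · simp
    · exact w'.symm
  exact BC.of_hcomp h1 h6

/-- Étale base change. -/
theorem IsRFS.baseChange_etale {M : DCoh.DEt P} (h : IsRFS f j M) {f' : P' ⟶ S'} {j' : X' ⟶ P'} {q : S' ⟶ S}
    {qP : P' ⟶ P} {qX : X' ⟶ X} (w : IsPullback qP f' f q) (w' : IsPullback qX j' j qP) [Etale q] :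
    IsRFS f' j' ((pullD qP).obj M) :=
  h.baseChange w.w w'.w (bc_of_etale w M) (bc_of_etale (w'.paste_vert w) _)

/-- If `M ⟶ Rj_* j^* M` is an isomorphism. -/
theorem IsRFS.of_isIso_unit {M : DCoh.DEt P} (h : IsIso ((dPullPush j).unit.app M)) : IsRFS f j M := by
  rw [rfs_iff_bijective]
  intro T'
  exact Etrest.HpullBij.bijective_map_of_isIso_unit (dPullPush j) _ _ h

/-- Sheaves with `G = j_* j^* G` and `R^q j_* j^* G = 0`. -/
theorem isIso_unit_single (G : EtCoh.Ab P) (h0 : IsIso ((EtCoh.pullPushAdj j).unit.app G))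
    (h1 : ∀ q : ℕ, 0 < q → IsZero ((EtCoh.Rpush j q).obj ((EtCoh.pull j).obj G))) (n : ℤ) :
    IsIso ((dPullPush j).unit.app (((DerivedCategory.singleFunctor (EtCoh.Ab P) 0).obj G)⟦n⟧)) :=
  Etrest.HpullBij.isIso_dAdj_unit_single (EtCoh.pullPushAdj j) G h0 (fun n => h1 (n + 1) n.succ_pos) n

theorem IsRFS.of_acyclic (f : P ⟶ S) (j : X ⟶ P) (G : EtCoh.Ab P)
    (h0 : IsIso ((EtCoh.pullPushAdj j).unit.app G))
    (h1 : ∀ q : ℕ, 0 < q → IsZero ((EtCoh.Rpush j q).obj ((EtCoh.pull j).obj G))) :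
    IsRFS f j ((DerivedCategory.singleFunctor (EtCoh.Ab P) 0).obj G) :=
  IsRFS.of_shift (n := 0) (IsRFS.of_isIso_unit (isIso_unit_single G h0 h1 0))

section H

/-- The constant sheaf `ℤ` in degree zero pulls back to itself. -/
def pullZ (f : P ⟶ S) : (pullD f).obj ((DerivedCategory.singleFunctor (EtCoh.Ab S) 0).obj (EtCoh.const S ℤ)) ≅
    (DerivedCategory.singleFunctor (EtCoh.Ab P) 0).obj (EtCoh.const P ℤ) :=
  ((EtCoh.pull f).mapDerivedCategorySingleFunctor 0).app _ ≪≫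
    (DerivedCategory.singleFunctor (EtCoh.Ab P) 0).mapIso (EtCore.pullConst f ℤ)

theorem IsRFS.mapExact_bijective {G : EtCoh.Ab P}
    (h : IsRFS f j ((DerivedCategory.singleFunctor (EtCoh.Ab P) 0).obj G)) (n : ℕ) :
    Function.Bijective ((EtCoh.pull j).mapExtAddHom (EtCoh.const P ℤ) G n) := by
  have h1 := (h.shift (n : ℤ)).bijective _ (pullZ f)
  exact ⟨(Etbc.H181.HyperExt.mapInj_iff (EtCoh.pull j) (EtCoh.const P ℤ) G n).1 h1.1,
    (Etbc.H181.HyperExt.mapSurj_iff (EtCoh.pull j) (EtCoh.const P ℤ) G n).1 h1.2⟩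

/-- The consequence for pullback maps on etale cohomology. -/
theorem IsRFS.Hpull_bijective [PreservesFiniteLimits (EtCoh.pull j)] {G : EtCoh.Ab P}
    (h : IsRFS f j ((DerivedCategory.singleFunctor (EtCoh.Ab P) 0).obj G)) (n : ℕ) :
    Function.Bijective (EtCore.Hpull j G n) := by
  have h2 := h.mapExact_bijective n
  have h3 : Function.Bijective (fun e : Abelian.Ext ((EtCoh.pull j).obj (EtCoh.const P ℤ))
      ((EtCoh.pull j).obj G) n => (Abelian.Ext.mk₀ (EtCore.pullConst j ℤ).inv).comp e (zero_add n)) := by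
    constructor
    · intro a b h
      have := congrArg (fun e => (Abelian.Ext.mk₀ (EtCore.pullConst j ℤ).hom).comp e (zero_add n)) h
      simpa only [Abelian.Ext.mk₀_comp_mk₀_assoc, Iso.hom_inv_id, Abelian.Ext.mk₀_id_comp] using this
    · intro a
      refine ⟨(Abelian.Ext.mk₀ (EtCore.pullConst j ℤ).hom).comp a (zero_add n), ?_⟩
      simp only [Abelian.Ext.mk₀_comp_mk₀_assoc, Iso.inv_hom_id]
      exact Abelian.Ext.mk₀_id_comp _
  exact h3.comp h2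

end H

end Groth.Agent.Sga4h.H555.RFS
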